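import Groth.Agent.AlgSpQC.Push
import Groth.Agent.AlgSpCov.LocPBasic
import Groth.Agent.AlgSpCov.Instances
import Groth.Agent.ESLocal.Basic
import Mathlib.RingTheory.Finiteness.ModuleFinitePresentation

/-!
# Finiteness of modules and of their direct images along finite morphisms
-/

universe u

open CategoryTheory CategoryTheory.Limits AlgebraicGeometry Opposite TensorProduct

set_option backward.isDefEq.respectTransparency false
set_option backward.isDefEq.respectTransparency.types false
set_option autoImplicit false

namespace Groth.Agent.PushFin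

open _root_.AlgSp
open Groth.Agent Groth.Agent.AlgSpQC

/-- A module over a finite algebra which is finitely presented over the base is finitely presented. -/
theorem finitePresentation_of_restrictScalars {R T M : Type*} [CommRing R] [CommRing T] [Algebra R T]
    [AddCommGroup M] [Module R M] [Module T M] [IsScalarTower R T M] [Module.Finite R T]
    [Module.FinitePresentation R M] : Module.FinitePresentation T M := by
  classical
  let μ : T ⊗[R] M →ₗ[T] M := TensorProduct.AlgebraTensorModule.lift
    (LinearMap.toSpanSingleton T (M →ₗ[R] M) LinearMap.id)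
  have hμ : ∀ t m, μ (t ⊗ₜ[R] m) = t • m := fun t m => rfl
  refine Module.finitePresentation_of_surjective μ (fun m => ⟨1 ⊗ₜ m, by rw [hμ, one_smul]⟩) ?_
  obtain ⟨b, hb⟩ := Module.Finite.fg_top (R := R) (M := T)
  obtain ⟨s, hs⟩ := Module.Finite.fg_top (R := R) (M := M)
  let D : T → M → T ⊗[R] M := fun t m => t ⊗ₜ[R] m - (1 : T) ⊗ₜ[R] (t • m)
  refine ⟨(b ×ˢ s).image fun p => D p.1 p.2, le_antisymm (Submodule.span_le.2 ?_) fun z hz => ?_⟩
  · intro x hx
    obtain ⟨p, -, rfl⟩ := Finset.mem_image.1 hx
    show μ (D p.1 p.2) = 0
    rw [map_sub, hμ, hμ, one_smul, sub_self]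
  · have hD : ∀ t m, D t m ∈ Submodule.span T (((b ×ˢ s).image fun p => D p.1 p.2 : Finset _) : Set (T ⊗[R] M)) := by
      intro t m
      have ht : t ∈ Submodule.span R (b : Set T) := hb ▸ Submodule.mem_top
      induction ht using Submodule.span_induction with
      | mem t ht =>
        have hm : m ∈ Submodule.span R (s : Set M) := hs ▸ Submodule.mem_top
        induction hm using Submodule.span_induction with
        | mem m hm =>
          exact Submodule.subset_span (Finset.mem_image.2 ⟨(t, m), Finset.mem_product.2 ⟨ht, hm⟩, rfl⟩)
        | zero => simp [D]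
        | add x y _ _ hx hy =>
          have : D t (x + y) = D t x + D t y := by
            simp only [D, smul_add, TensorProduct.tmul_add]
            abel
          exact this ▸ Submodule.add_mem _ hx hy
        | smul r x _ hx =>
          have : D t (r • x) = algebraMap R T r • D t x := by
            simp only [D, algebraMap_smul, smul_sub, TensorProduct.tmul_smul, smul_comm t r x]
          exact this ▸ Submodule.smul_mem _ _ hx
      | zero => simp [D]
      | add x y _ _ hx hy =>
        have : D (x + y) m = D x m + D y m := by
          simp only [D, add_smul, TensorProduct.tmul_add, TensorProduct.add_tmul]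
          abel
        exact this ▸ Submodule.add_mem _ hx hy
      | smul r x _ hx =>
        have : D (r • x) m = algebraMap R T r • D x m := by
          simp only [D, algebraMap_smul, smul_sub, TensorProduct.tmul_smul, smul_assoc, TensorProduct.smul_tmul']
        exact this ▸ Submodule.smul_mem _ _ hx
    have key : ∀ w : T ⊗[R] M, w - (1 : T) ⊗ₜ[R] μ w ∈
        Submodule.span T (((b ×ˢ s).image fun p => D p.1 p.2 : Finset _) : Set (T ⊗[R] M)) := by
      intro w
      induction w using TensorProduct.induction_on with
      | zero => simp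
      | tmul t m => rw [hμ]; exact hD t m
      | add x y hx hy =>
        have e : x + y - (1 : T) ⊗ₜ[R] μ (x + y) = (x - (1 : T) ⊗ₜ[R] μ x) + (y - (1 : T) ⊗ₜ[R] μ y) := by
          rw [map_add, TensorProduct.tmul_add]
          abel
        exact e ▸ Submodule.add_mem _ hx hy
    have h1 := key z
    rwa [LinearMap.mem_ker.1 hz, TensorProduct.tmul_zero, sub_zero] at h1

variable {S : Scheme.{u}} {X Y : Space S} {f : X.obj ⟶ Y.obj} {hf : Representable f}

/-- Base changes of the affine objects cover. -/
theorem coversTop_bcO : (etTop X.obj).CoversTop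
    fun i : {E : EtOver Y.obj // IsAffine E.obj.left.left} => bcO hf i.1 := by
  intro E'
  refine (Groth.Agent.AlgSpD.mem_etTop_iff _).2 fun x => ?_
  obtain ⟨ι, U, a, hUa, ha, has⟩ := ESLocal.exists_affine_cover Y.property
  obtain ⟨i, y, hy⟩ := has (Points.map f (Points.ofPt E'.obj.hom x))
  let E : EtOver Y.obj := EtOver.mk (a i) (ha i)
  have sq := EtOver.isPullback_bcObj hf E
  obtain ⟨z, hz, -⟩ := AlgSpB.exists_of_isPullback sq (Points.ofPt E'.obj.hom x) y hy.symm
  obtain ⟨W, fst, snd, h⟩ := AlgSpB.exists_pullback_yon (X.property.representable_from_yon E'.obj.hom) (bcO hf E).obj.hom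
  obtain ⟨z, rfl⟩ := (Points.schemeHomeo _).surjective z
  have hz' : Points.ofPt E'.obj.hom x = Points.ofPt (bcO hf E).obj.hom z := by
    rw [← hz]
    show Points.map _ (Points.ofPt (𝟙 _) z) = _
    rw [Points.map_ofPt, Category.id_comp]
    rfl
  obtain ⟨w, hw1, -⟩ := (AlgSpB.ofPt_eq_ofPt_iff h x z).1 hz'
  have he : Etale fst.left := (bcO hf E).property.2 _ _ _ h.flip
  let V : EtOver X.obj := EtOver.mk ((yon S).map fst ≫ E'.obj.hom)
    ((RepWith _).comp_mem _ _ ((repWith_yon_map_iff _ fst).2 he) E'.property)
  refine ⟨V, EtOver.homMk fst rfl, (Sieve.mem_ofObjects_iff ..).2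
    ⟨⟨E, hUa i⟩, ⟨EtOver.homMk snd h.w.symm⟩⟩, w, hw1⟩

theorem isFiniteType_of_bcO (haff : IsAffineMor f) (M : ModEt X.obj) [M.IsQuasicoherent]
    (h : ∀ (E : EtOver Y.obj), IsAffine E.obj.left.left → Module.Finite (gr (bcO hf E)) (sectModEt M (bcO hf E))) :
    M.IsFiniteType := by
  have aff : ∀ i : {E : EtOver Y.obj // IsAffine E.obj.left.left}, IsAffine (bcO hf i.1).obj.left.left := fun i =>
    have := i.2; isAffine_bcO_and_map (hf := hf) haff i.1
  choose n s hs using fun i : {E : EtOver Y.obj // IsAffine E.obj.left.left} =>
    (have := h i.1 i.2; exists_finite_generators (M := M) (E := bcO hf i.1))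
  constructor
  refine ⟨{ I := {E : EtOver Y.obj // IsAffine E.obj.left.left}
            X := fun i => bcO hf i.1
            coversTop := coversTop_bcO
            generators := fun i =>
              { I := ULift.{u + 1} (Fin (n i))
                s := fun r => secOf (s i r)
                epi := epi_secOf (s i) (have := aff i; (pres_of_generators (hs i)).gen) } }, ?_⟩
  constructor
  intro i
  constructor
  exact inferInstanceAs (Finite (ULift.{u + 1} (Fin (n i))))

theorem isFinitePresentation_of_bcO (haff : IsAffineMor f) (M : ModEt X.obj) [M.IsQuasicoherent]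
    (h : ∀ (E : EtOver Y.obj), IsAffine E.obj.left.left →
      Module.FinitePresentation (gr (bcO hf E)) (sectModEt M (bcO hf E))) : M.IsFinitePresentation := by
  have key : ∀ i : {E : EtOver Y.obj // IsAffine E.obj.left.left},
      ∃ P : (M.over (bcO hf i.1)).Presentation, P.IsFinite := fun i => by
    have := i.2
    have := isAffine_bcO_and_map (hf := hf) haff i.1
    have := h i.1 i.2
    obtain ⟨n, s, hs⟩ := exists_finite_generators (M := M) (E := bcO hf i.1)
    have hfg : (LinearMap.ker (lc s)).FG := Module.FinitePresentation.fg_ker _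
      (LinearMap.range_eq_top.1 ((Finsupp.range_linearCombination (gr (bcO hf i.1))).trans hs))
    obtain ⟨m, C, hC⟩ := Submodule.fg_iff_exists_fin_generating_family.1 hfg
    have hC' : LinearMap.ker (lc s) =
        Submodule.span (gr (bcO hf i.1)) (Set.range fun r : ULift.{u + 1} (Fin m) => C r.down) := by
      rw [← hC]; congr 1; ext x; simp [ULift.exists]
    have h₁ : (presentationOfPres (pres_of_generators hs) _ hC').generators.IsFiniteType :=
      ⟨inferInstanceAs (Finite (ULift.{u + 1} (Fin n)))⟩
    have h₂ : (presentationOfPres (pres_of_generators hs) _ hC').relations.IsFiniteType :=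
      ⟨inferInstanceAs (Finite (ULift.{u + 1} (Fin m)))⟩
    exact ⟨presentationOfPres (pres_of_generators hs) _ hC', { }⟩
  choose P hP using key
  constructor
  refine ⟨{ I := {E : EtOver Y.obj // IsAffine E.obj.left.left}
            X := fun i => bcO hf i.1
            coversTop := coversTop_bcO
            presentation := P }, ?_⟩
  constructor
  exact hP

theorem finitePresentation_gπ (hfin : IsFiniteMor f) (hfp : IsFinitePresentationMor f) (E : EtOver Y.obj)
    [IsAffine E.obj.left.left] : (gπ hf E).FinitePresentation := by
  have := isAffine_bcO_and_map (hf := hf) (isAffineMor_of_isFiniteMor hfin) E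
  have h : LocallyOfFinitePresentation (EtOver.bcπ hf E).left :=
    (AlgSpCov.repWith_of_locP AlgSpCov.etaleLocal_locallyOfFinitePresentation X.property Y.property hf hfp.1).2 _ _ _
      (EtOver.isPullback_bcObj hf E)
  have : IsAffine (EtOver.bcObj hf E).obj.left.left := this
  exact (HasRingHomProperty.iff_of_isAffine (P := @LocallyOfFinitePresentation)).1 h

theorem isFiniteType_iff (hfin : IsFiniteMor f) (M : ModEt X.obj) [M.IsQuasicoherent] :
    M.IsFiniteType ↔ ((pushModEt hf).obj M).IsFiniteType := by
  have haff := isAffineMor_of_isFiniteMor hfin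
  have := isQuasicoherent_push_affine (hf := hf) haff M
  refine ⟨fun h => isFiniteType_of_finite fun E hE => finite_push (hf := hf) hfin M E,
    fun h => isFiniteType_of_bcO (hf := hf) haff M fun E hE => ?_⟩
  have := finite_sections (M := (pushModEt hf).obj M) E
  let _ : Algebra (gr E) (gr (bcO hf E)) := (gπ hf E).toAlgebra
  let _ : Module (gr E) (sectModEt M (bcO hf E)) := Module.compHom _ (gπ hf E)
  have : IsScalarTower (gr E) (gr (bcO hf E)) (sectModEt M (bcO hf E)) := .of_algebraMap_smul fun _ _ => rfl
  have : Module.Finite (gr E) (sectModEt M (bcO hf E)) :=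
    Module.Finite.equiv ((pushSect hf M E).toLinearEquiv (pushSect_smul hf M E))
  exact Module.Finite.of_restrictScalars_finite (gr E) _ _

theorem isFinitePresentation_iff (hfin : IsFiniteMor f) (hfp : IsFinitePresentationMor f) (M : ModEt X.obj)
    [M.IsQuasicoherent] : M.IsFinitePresentation ↔ ((pushModEt hf).obj M).IsFinitePresentation := by
  have haff := isAffineMor_of_isFiniteMor hfin
  have := isQuasicoherent_push_affine (hf := hf) haff M
  constructor
  · intro h
    refine isFinitePresentation_of_finitePresentation fun E hE => ?_
    have := isAffine_bcO_and_map (hf := hf) haff E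
    have := finitePresentation_sections (M := M) (bcO hf E)
    let _ : Algebra (gr E) (gr (bcO hf E)) := (gπ hf E).toAlgebra
    have : Module.Finite (gr E) (gr (bcO hf E)) := finite_gπ hfin E
    have : Algebra.FinitePresentation (gr E) (gr (bcO hf E)) := finitePresentation_gπ hfin hfp E
    have := Module.FinitePresentation.of_finite_of_finitePresentation (R := gr E) (S := gr (bcO hf E))
    let _ : Module (gr E) (sectModEt M (bcO hf E)) := Module.compHom _ (gπ hf E)
    have : IsScalarTower (gr E) (gr (bcO hf E)) (sectModEt M (bcO hf E)) := .of_algebraMap_smul fun _ _ => rfl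
    have : Module.FinitePresentation (gr E) (sectModEt M (bcO hf E)) :=
      Module.FinitePresentation.trans (gr E) _ (gr (bcO hf E))
    exact Module.FinitePresentation.of_equiv ((pushSect hf M E).toLinearEquiv (pushSect_smul hf M E)).symm
  · intro h
    refine isFinitePresentation_of_bcO (hf := hf) haff M fun E hE => ?_
    have := finitePresentation_sections (M := (pushModEt hf).obj M) E
    let _ : Algebra (gr E) (gr (bcO hf E)) := (gπ hf E).toAlgebra
    have : Module.Finite (gr E) (gr (bcO hf E)) := finite_gπ hfin E
    let _ : Module (gr E) (sectModEt M (bcO hf E)) := Module.compHom _ (gπ hf E)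
    have : IsScalarTower (gr E) (gr (bcO hf E)) (sectModEt M (bcO hf E)) := .of_algebraMap_smul fun _ _ => rfl
    have : Module.FinitePresentation (gr E) (sectModEt M (bcO hf E)) :=
      Module.FinitePresentation.of_equiv ((pushSect hf M E).toLinearEquiv (pushSect_smul hf M E))
    exact finitePresentation_of_restrictScalars (R := gr E)

end Groth.Agent.PushFin
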